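import Cfsg.Agent.H447.IFO.Solv
import Cfsg.Agent.AutOrth.Main

/-!
# S5719, `|A|` odd, orthogonal groups: the frame (helper429)

`V` a quadratic space over a finite field, `T = P Q = E Q / Z(E Q)`.
* `hatSet R r` : the elements `g` of `E Q` with `g ^ r = 1` and image in `R` (the lift of the `r`-group `R`);
* `Semi Q Γ` : every element of `Γ` is induced by a semisimilarity;
* `kill_of_norm`, `kill_of_set` : contradictions from an involution of `T` normalising `R`, resp. a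
  canonical set of operators.
-/

set_option autoImplicit false

namespace Cfsg.Agent.H429.IFO

open QuadraticMap Subgroup Cfsg.Agent.LieClassical.OrthCore Cfsg.Agent.LieClassical.OrthTrans
  Cfsg.Agent.LieClassical.OrthSimple Cfsg.Agent.AutOrth.SemiSim Cfsg.Agent.ClassicalGeometry.OrthAut1
  Cfsg.Agent.H209.Fxy
open scoped commutatorElement

/-! ### Groups whose centre has exponent two -/

section groups

variable {G : Type*} [Group G]

theorem eq_one_of_odd {z : G} (hz : z * z = 1) {r : ℕ} (hr : Odd r) (h : z ^ r = 1) : z = 1 := by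
  obtain ⟨k, rfl⟩ := hr
  rwa [pow_succ, pow_mul, pow_two, hz, one_pow, one_mul] at h

theorem exists_lift (hZ : ∀ z ∈ center G, z * z = 1) {x : G ⧸ center G} {r : ℕ} (hr : Odd r) (hx : x ^ r = 1) :
    ∃ g : G, (g : G ⧸ center G) = x ∧ g ^ r = 1 := by
  obtain ⟨g, rfl⟩ := QuotientGroup.mk_surjective x
  have h1 : g ^ r ∈ center G := by
    rw [← QuotientGroup.eq_one_iff]
    exact hx
  have h2 := hZ _ h1
  refine ⟨g * g ^ r, ?_, ?_⟩
  · change ((g : G ⧸ center G)) * (g : G ⧸ center G) ^ r = _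
    rw [hx, mul_one]
  · have hc : Commute g (g ^ r) := Commute.self_pow g r
    rw [hc.mul_pow]
    obtain ⟨k, hk⟩ := hr
    have h3 : (g ^ r) ^ r = g ^ r := by
      nth_rewrite 2 [hk]
      rw [pow_succ, pow_mul, pow_two, h2, one_pow, one_mul]
    rw [h3, h2]

theorem lift_comm (hZ : ∀ z ∈ center G, z * z = 1) {g h : G} {r : ℕ} (hr : Odd r) (hh : h ^ r = 1)
    (hc : (g : G ⧸ center G) * (h : G ⧸ center G) = (h : G ⧸ center G) * (g : G ⧸ center G)) : g * h = h * g := by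
  have h1 : ⁅g, h⁆ ∈ center G := by
    rw [← QuotientGroup.eq_one_iff]
    have : ((⁅g, h⁆ : G) : G ⧸ center G) = ⁅(g : G ⧸ center G), (h : G ⧸ center G)⁆ := rfl
    rw [this, commutatorElement_eq_one_iff_mul_comm]
    exact hc
  have h2 : ⁅g, h⁆ * h = g * h * g⁻¹ := by
    rw [commutatorElement_def]
    group
  have h3 : (⁅g, h⁆ * h) ^ r = 1 := by
    rw [h2, conj_pow, hh, mul_one, mul_inv_cancel]
  have h4 : Commute ⁅g, h⁆ h := (mem_center_iff.1 h1 h).symm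
  rw [h4.mul_pow, hh, mul_one] at h3
  have h5 := eq_one_of_odd (hZ _ h1) hr h3
  exact commutatorElement_eq_one_iff_mul_comm.1 h5

theorem lift_unique (hZ : ∀ z ∈ center G, z * z = 1) {g h : G} {r : ℕ} (hr : Odd r) (hg : g ^ r = 1) (hh : h ^ r = 1)
    (he : (g : G ⧸ center G) = (h : G ⧸ center G)) : g = h := by
  have h1 : g⁻¹ * h ∈ center G := QuotientGroup.eq.1 he
  have h2 : g * (g⁻¹ * h) = h := by group
  have h4 : Commute g (g⁻¹ * h) := mem_center_iff.1 h1 g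
  have h3 : (g * (g⁻¹ * h)) ^ r = 1 := by rw [h2, hh]
  rw [h4.mul_pow, hg, one_mul] at h3
  have h5 := eq_one_of_odd (hZ _ h1) hr h3
  rw [← h2, h5, mul_one]

end groups

variable {F V : Type*} [Field F] [AddCommGroup V] [Module F V] {Q : QuadraticForm F V}

theorem exists_norm_one (hG : Good Q) : ∃ v : V, Q v = 1 := by
  obtain ⟨x, y, h⟩ := hG.exists_hyp
  exact ⟨x + y, by rw [Q_add, h.left, h.right, h.pair, add_zero, zero_add]⟩

/-- a scalar isometry has square one -/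
theorem scalar_sq (hG : Good Q) {g : V ≃ₗ[F] V} (hg : g ∈ O Q) {c : F} (hc : ∀ v, g v = c • v) : c * c = 1 := by
  obtain ⟨v, hv⟩ := exists_norm_one hG
  have h1 := hg v
  rw [hc, QuadraticMap.map_smul, hv, smul_eq_mul, mul_one] at h1
  exact h1

theorem center_sq (hG : Good Q) (z : ↥(E Q)) (hz : z ∈ center ↥(E Q)) : z * z = 1 := by
  obtain ⟨c, hc⟩ := center_scalar hG hz
  have h1 := scalar_sq hG (E_le_O z.2) hc
  apply ext_E
  intro v
  change (z : V ≃ₗ[F] V) ((z : V ≃ₗ[F] V) v) = v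
  rw [hc, hc, smul_smul, h1, one_smul]

/-- **The lift of the `r`-group `R`.** -/
def hatSet (R : Subgroup (P Q)) (r : ℕ) : Set (V ≃ₗ[F] V) :=
  {g | ∃ hg : g ∈ E Q, g ^ r = 1 ∧ (((⟨g, hg⟩ : ↥(E Q)) : P Q)) ∈ R}

section hat

variable {R : Subgroup (P Q)} {r : ℕ}

theorem hat_E {g : V ≃ₗ[F] V} (h : g ∈ hatSet R r) : g ∈ E Q := h.1

theorem hat_O {g : V ≃ₗ[F] V} (h : g ∈ hatSet R r) : g ∈ O Q := E_le_O h.1

theorem hat_pow {g : V ≃ₗ[F] V} (h : g ∈ hatSet R r) : g ^ r = 1 := h.2.1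

theorem hat_one : (1 : V ≃ₗ[F] V) ∈ hatSet R r := ⟨one_mem _, one_pow _, R.one_mem⟩

theorem hat_inv {g : V ≃ₗ[F] V} (h : g ∈ hatSet R r) : g⁻¹ ∈ hatSet R r :=
  ⟨inv_mem h.1, by rw [inv_pow, h.2.1, inv_one], R.inv_mem h.2.2⟩

theorem hat_comm (hG : Good Q) (hr : Odd r) (hcomm : ∀ x ∈ R, ∀ y ∈ R, x * y = y * x) {g h : V ≃ₗ[F] V}
    (hg : g ∈ hatSet R r) (hh : h ∈ hatSet R r) : g * h = h * g := by
  have h1 := lift_comm (center_sq hG) (g := (⟨g, hg.1⟩ : ↥(E Q))) (h := ⟨h, hh.1⟩) hr (Subtype.ext hh.2.1)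
    (hcomm _ hg.2.2 _ hh.2.2)
  exact congrArg Subtype.val h1

theorem hat_mul (hG : Good Q) (hr : Odd r) (hcomm : ∀ x ∈ R, ∀ y ∈ R, x * y = y * x) {g h : V ≃ₗ[F] V}
    (hg : g ∈ hatSet R r) (hh : h ∈ hatSet R r) : g * h ∈ hatSet R r := by
  refine ⟨mul_mem hg.1 hh.1, ?_, R.mul_mem hg.2.2 hh.2.2⟩
  have hc : Commute g h := hat_comm hG hr hcomm hg hh
  rw [hc.mul_pow, hg.2.1, hh.2.1, one_mul]

/-- every element of `R` lifts -/
theorem exists_hat (hG : Good Q) (hr : Odd r) (hpow : ∀ x ∈ R, x ^ r = 1) {x : P Q} (hx : x ∈ R) :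
    ∃ (g : V ≃ₗ[F] V) (hg : g ∈ hatSet R r), (((⟨g, hg.1⟩ : ↥(E Q)) : P Q)) = x := by
  obtain ⟨g, h1, h2⟩ := exists_lift (center_sq hG) hr (hpow x hx)
  refine ⟨g, ⟨g.2, congrArg Subtype.val h2, ?_⟩, h1⟩
  have : (((⟨(g : V ≃ₗ[F] V), g.2⟩ : ↥(E Q)) : P Q)) = x := h1
  rw [this]
  exact hx

/-- The lift as a subgroup. -/
def hatGroup (hG : Good Q) (hr : Odd r) (hcomm : ∀ x ∈ R, ∀ y ∈ R, x * y = y * x) : Subgroup (V ≃ₗ[F] V) where
  carrier := hatSet R r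
  mul_mem' := hat_mul hG hr hcomm
  one_mem' := hat_one
  inv_mem' := hat_inv

theorem exists_hat_ne (hG : Good Q) (hr : Odd r) (hpow : ∀ x ∈ R, x ^ r = 1) (hR : R ≠ ⊥) :
    ∃ g ∈ hatSet R r, g ≠ 1 := by
  obtain ⟨x, hx⟩ := Subgroup.ne_bot_iff_exists_ne_one.1 hR
  obtain ⟨g, hg, he⟩ := exists_hat hG hr hpow x.2
  refine ⟨g, hg, ?_⟩
  rintro rfl
  apply hx
  apply Subtype.ext
  rw [← he]
  rfl

end hat

/-- the set `S` of operators is preserved by `g` -/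
def Nm (S : Set (Module.End F V)) (g : V → V) : Prop := ∀ a ∈ S, ∃ b ∈ S, ∀ v, b (g v) = g (a v)

theorem Nm.mul {S : Set (Module.End F V)} {g h : V ≃ₗ[F] V} (hg : Nm S g) (hh : Nm S h) : Nm S ⇑(g * h) := by
  intro a ha
  obtain ⟨b, hb, h1⟩ := hh a ha
  obtain ⟨c, hc, h2⟩ := hg b hb
  refine ⟨c, hc, fun v => ?_⟩
  change c (g (h v)) = g (h (a v))
  rw [h2, h1]

theorem Nm.one {S : Set (Module.End F V)} : Nm S ⇑(1 : V ≃ₗ[F] V) := fun a ha => ⟨a, ha, fun _ => rfl⟩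

theorem Nm.pow {S : Set (Module.End F V)} {g : V ≃ₗ[F] V} (hg : Nm S g) (n : ℕ) : Nm S ⇑(g ^ n) := by
  induction n with
  | zero => exact Nm.one
  | succ n ih => rw [pow_succ]; exact ih.mul hg

theorem Nm.inv [Finite (V ≃ₗ[F] V)] {S : Set (Module.End F V)} {g : V ≃ₗ[F] V} (hg : Nm S g) : Nm S ⇑(g⁻¹) := by
  have h1 : g⁻¹ = g ^ (orderOf g - 1) := by
    have h2 : g ^ (orderOf g - 1) * g = 1 := by
      rw [← pow_succ, Nat.sub_add_cancel (orderOf_pos g), pow_orderOf_eq_one]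
    exact (eq_inv_of_mul_eq_one_left h2).symm
  rw [h1]
  exact hg.pow _

/-- Every element of `Γ` is induced by a semisimilarity. -/
def Semi (Q : QuadraticForm F V) (Γ : Subgroup (MulAut (P Q))) : Prop :=
  ∀ α ∈ Γ, ∃ (M : V ≃+ V) (σ : F ≃+* F) (c : F) (hM : IsSemi Q M σ c),
    ∀ g : ↥(E Q), α (g : P Q) = ((conjE hM g : ↥(E Q)) : P Q)

theorem finite_equiv [Finite F] (hG : Good Q) : Finite (V ≃ₗ[F] V) := by
  have : FiniteDimensional F V := Module.finite_of_finrank_pos (by have := hG.dim; omega)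
  have : Finite V := Module.finite_of_finite F
  exact Finite.of_injective (fun f : V ≃ₗ[F] V => (f : V → V)) fun _ _ h => DFunLike.coe_injective h

theorem finite_P [Finite F] (hG : Good Q) : Finite (P Q) := by
  have := finite_equiv hG
  exact Quotient.finite _

theorem simple_P (hG : Good Q) : IsSimpleGroup (P Q) := good_isSimpleGroup hG

/-- the image of `x` has order two -/
theorem orderOf_two (hG : Good Q) {x : V ≃ₗ[F] V} (hx : x ∈ E Q) (hx2 : ∃ c : F, ∀ v, x (x v) = c • v)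
    (hx1 : ¬ ∃ c : F, ∀ v, x v = c • v) : orderOf (((⟨x, hx⟩ : ↥(E Q)) : P Q)) = 2 := by
  rw [orderOf_eq_prime_iff]
  constructor
  · rw [pow_two]
    change (((⟨x, hx⟩ * ⟨x, hx⟩ : ↥(E Q))) : P Q) = 1
    rw [QuotientGroup.eq_one_iff]
    obtain ⟨c, hc⟩ := hx2
    exact mem_center_of_scalar (c := c) hc
  · intro h
    rw [QuotientGroup.eq_one_iff] at h
    exact hx1 (center_scalar hG h)

section kill

variable [Finite F] {A : Subgroup (P Q)} {Γ : Subgroup (MulAut (P Q))} {R : Subgroup (P Q)} {r : ℕ}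

/-- **An involution of `T` normalising `R`.** -/
theorem kill_of_norm (hG : Good Q) (h : IF A Γ) (hodd : Odd (Nat.card A)) (hr : r.Prime) (hr2 : r ≠ 2)
    (hRA : R ≤ A) (hR : R ≠ ⊥) (hpow : ∀ x ∈ R, x ^ r = 1) (hinv : ∀ σ ∈ Γ, ∀ x ∈ R, σ x ∈ R)
    {x : V ≃ₗ[F] V} (hx : x ∈ E Q) (hxN : ∀ g ∈ hatSet R r, x * g * x⁻¹ ∈ hatSet R r)
    (hx2 : ∃ c : F, ∀ v, x (x v) = c • v) (hx1 : ¬ ∃ c : F, ∀ v, x v = c • v) : False := by
  have := finite_P hG
  have := simple_P hG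
  have h1 : (((⟨x, hx⟩ : ↥(E Q)) : P Q)) ∈ A := by
    apply Cfsg.Agent.H680.Fxy.IF.norm h hRA hinv hR
    intro k hk
    obtain ⟨g, hg, rfl⟩ := exists_hat hG (hr.odd_of_ne_two hr2) hpow hk
    exact (hxN g hg).2.2
  have h2 : 2 ∣ Nat.card A := by
    rw [← orderOf_two hG hx hx2 hx1, ← Subgroup.orderOf_mk (((⟨x, hx⟩ : ↥(E Q)) : P Q)) h1]
    exact orderOf_dvd_natCard _
  exact (Nat.not_even_iff_odd.2 hodd) (even_iff_two_dvd.2 h2)

/-- **An involution of `T` normalising a canonical set of operators.** -/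
theorem kill_of_set (hG : Good Q) (h : IF A Γ) (hodd : Odd (Nat.card A)) (hΓ : Semi Q Γ)
    (hinv : ∀ σ ∈ Γ, ∀ x ∈ R, σ x ∈ R) (S : Set (Module.End F V))
    (hS : ∀ (M : V ≃+ V) (σ : F ≃+* F) (c : F) (hM : IsSemi Q M σ c),
      (∀ g ∈ hatSet R r, conjL hM g ∈ hatSet R r) → Nm S M)
    {x : V ≃ₗ[F] V} (hx : x ∈ E Q) (hx2 : ∃ c : F, ∀ v, x (x v) = c • v) (hx1 : ¬ ∃ c : F, ∀ v, x v = c • v)
    (hxS : Nm S x) (hprop : ∃ g ∈ E Q, ¬ Nm S ⇑(g : V ≃ₗ[F] V)) : False := by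
  have := finite_P hG
  have := finite_equiv hG
  have := simple_P hG
  -- the stabiliser
  let B' : Subgroup ↥(E Q) :=
    { carrier := {g | Nm S ⇑(g : V ≃ₗ[F] V)}
      mul_mem' := fun {a b} ha hb => Nm.mul ha hb
      one_mem' := Nm.one
      inv_mem' := fun {a} ha => Nm.inv ha }
  let B : Subgroup (P Q) := B'.map (QuotientGroup.mk' _)
  have key : ∀ (M : V ≃+ V) (σ : F ≃+* F) (c : F) (hM : IsSemi Q M σ c) (α : MulAut (P Q)),
      (∀ x ∈ R, α x ∈ R) → (∀ g : ↥(E Q), α (g : P Q) = ((conjE hM g : ↥(E Q)) : P Q)) → Nm S M := by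
    intro M σ c hM α hα hg
    refine hS M σ c hM fun g hgR => ⟨conjL_mem_E hM hgR.1, ?_, ?_⟩
    · have h1 : conjL hM g ^ r = conjL hM (g ^ r) := (map_pow (conjLHom hM) g r).symm
      rw [h1, hgR.2.1]
      exact map_one (conjLHom hM)
    · have h1 := hα _ hgR.2.2
      rw [hg] at h1
      exact h1
  have hAB : A ≤ B := by
    intro a ha
    obtain ⟨g, rfl⟩ := QuotientGroup.mk_surjective a
    refine ⟨g, ?_, rfl⟩
    have hM : IsSemi Q ((g : V ≃ₗ[F] V).toAddEquiv) (RingEquiv.refl F) 1 :=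
      ⟨one_ne_zero, fun a v => map_smul (g : V ≃ₗ[F] V) a v, fun v => by
        rw [one_mul]
        exact E_le_O g.2 v⟩
    refine key _ _ _ hM (MulAut.conj (g : P Q)) (hinv _ ((h.conj _).2 ha)) fun k => ?_
    rw [MulAut.conj_apply]
    change (((g * k * g⁻¹ : ↥(E Q))) : P Q) = _
    rfl
  have hBinv : ∀ α ∈ Γ, ∀ b ∈ B, α b ∈ B := by
    rintro α hα _ ⟨g, hg, rfl⟩
    obtain ⟨M, σ, c, hM, hMg⟩ := hΓ α hα
    refine ⟨conjE hM g, ?_, (hMg g).symm⟩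
    have h1 : Nm S M := key M σ c hM α (hinv α hα) hMg
    have h2 : Nm S M.symm := by
      refine key M.symm σ.symm _ hM.symm α⁻¹ (hinv _ (Γ.inv_mem hα)) fun k => ?_
      have h3 : α (((conjE hM.symm k : ↥(E Q)) : P Q)) = (k : P Q) := by
        rw [hMg]
        congr 1
        exact (conjE hM).right_inv k
      rw [← h3]
      exact MulAut.inv_apply_self _ α _
    intro a ha
    obtain ⟨a1, ha1, e1⟩ := h2 a ha
    obtain ⟨a2, ha2, e2⟩ := hg a1 ha1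
    obtain ⟨a3, ha3, e3⟩ := h1 a2 ha2
    refine ⟨a3, ha3, fun v => ?_⟩
    change a3 (M ((g : V ≃ₗ[F] V) (M.symm v))) = M ((g : V ≃ₗ[F] V) (M.symm (a v)))
    rw [e3, e2, e1]
  rcases h.max B hAB hBinv with h1 | h1
  · have h2 : (((⟨x, hx⟩ : ↥(E Q)) : P Q)) ∈ A := by
      rw [← h1]
      exact ⟨⟨x, hx⟩, hxS, rfl⟩
    have h3 : 2 ∣ Nat.card A := by
      rw [← orderOf_two hG hx hx2 hx1, ← Subgroup.orderOf_mk (((⟨x, hx⟩ : ↥(E Q)) : P Q)) h2]
      exact orderOf_dvd_natCard _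
    exact (Nat.not_even_iff_odd.2 hodd) (even_iff_two_dvd.2 h3)
  · obtain ⟨g, hg, hgN⟩ := hprop
    apply hgN
    have h2 : (((⟨g, hg⟩ : ↥(E Q)) : P Q)) ∈ B := by rw [h1]; trivial
    obtain ⟨g', hg', he⟩ := h2
    have h3 : g'⁻¹ * ⟨g, hg⟩ ∈ center ↥(E Q) := QuotientGroup.eq.1 he
    obtain ⟨c, hc⟩ := center_scalar hG h3
    have h4 : ∀ v, g v = (g' : V ≃ₗ[F] V) (c • v) := by
      intro v
      rw [← hc v]
      change g v = (((g' * (g'⁻¹ * ⟨g, hg⟩) : ↥(E Q))) : V ≃ₗ[F] V) v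
      rw [mul_inv_cancel_left]
    intro a ha
    obtain ⟨b, hb, e⟩ := hg' a ha
    refine ⟨b, hb, fun v => ?_⟩
    rw [h4, h4, e, map_smul]

end kill

end Cfsg.Agent.H429.IFO
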