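import Cfsg.Agent.H429.IFO.Frame
import Cfsg.Agent.H429.IFO.Theta
import Cfsg.Agent.H429.IFO.Alg
import Cfsg.Agent.H283.Fxo.TwoSemi

/-!
# S5719, `|A|` odd, orthogonal groups: one coarse block, dimension `2 mod 4` (helper429)
-/

set_option autoImplicit false

namespace Cfsg.Agent.H429.IFO

open QuadraticMap Cfsg.Agent.LieClassical.OrthCore Cfsg.Agent.LieClassical.OrthTrans
  Cfsg.Agent.LieClassical.OrthSimple Cfsg.Agent.AutOrth.SemiSim Cfsg.Agent.ClassicalGeometry.OrthAut1
  Cfsg.Agent.H209.Fxy Cfsg.Agent.H283.Fxo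
open scoped IsMulCommutative

variable {F V : Type*} [Field F] [AddCommGroup V] [Module F V] {Q : QuadraticForm F V}

/-- adjoint operators -/
def Adj (Q : QuadraticForm F V) (a b : Module.End F V) : Prop := ∀ u v, polar Q (a u) v = polar Q u (b v)

theorem Adj.unique (hQ : Nondeg Q) {a b b' : Module.End F V} (h : Adj Q a b) (h' : Adj Q a b') : b = b' := by
  ext v
  apply sub_eq_zero.1
  apply hQ
  intro u
  rw [polar_comm, polar_sub_right, ← h, ← h', sub_self]

theorem Adj.symm {a b : Module.End F V} (h : Adj Q a b) : Adj Q b a := by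
  intro u v
  rw [polar_comm, ← h, polar_comm]

theorem Adj.add {a b a' b' : Module.End F V} (h : Adj Q a b) (h' : Adj Q a' b') : Adj Q (a + a') (b + b') := by
  intro u v
  rw [LinearMap.add_apply, LinearMap.add_apply, polar_add_left, polar_add_right, h, h']

theorem Adj.mul {a b a' b' : Module.End F V} (h : Adj Q a b) (h' : Adj Q a' b') : Adj Q (a * a') (b' * b) := by
  intro u v
  rw [Module.End.mul_apply, Module.End.mul_apply, h, h']

theorem Adj.algebraMap (c : F) : Adj Q (algebraMap F (Module.End F V) c) (algebraMap F (Module.End F V) c) := by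
  intro u v
  rw [Module.algebraMap_end_apply, Module.algebraMap_end_apply, polar_smul_left, polar_smul_right]

theorem Adj.zero : Adj Q (0 : Module.End F V) 0 := by
  intro u v
  rw [LinearMap.zero_apply, LinearMap.zero_apply, polar_zero_left, polar_zero_right]

theorem Adj.one : Adj Q (1 : Module.End F V) 1 := fun _ _ => rfl

theorem Adj.of_isom {x : V ≃ₗ[F] V} (hx : x ∈ O Q) :
    Adj Q (x : V →ₗ[F] V) ((x⁻¹ : V ≃ₗ[F] V) : V →ₗ[F] V) := by
  intro u v
  obtain ⟨v, rfl⟩ := x.surjective v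
  change polar Q (x u) (x v) = polar Q u (x.symm (x v))
  rw [LinearEquiv.symm_apply_apply, polar_map hx]

variable {R : Set (V ≃ₗ[F] V)} {r : ℕ}

/-- A commutative group of isometries of exponent `r`. -/
structure CG (Q : QuadraticForm F V) (R : Set (V ≃ₗ[F] V)) (r : ℕ) : Prop where
  isom : ∀ x ∈ R, x ∈ O Q
  inv : ∀ x ∈ R, x⁻¹ ∈ R
  comm : ∀ x ∈ R, ∀ y ∈ R, x * y = y * x
  pow : ∀ x ∈ R, x ^ r = 1
  ne : ∃ x ∈ R, x ≠ 1
  prime : r.Prime
  odd : r ≠ 2
  char : (r : F) ≠ 0
  nondeg : Nondeg Q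
  idem : ∀ e ∈ Idm Q R, e = 0 ∨ e = 1

theorem CG.exists_adj (h : CG Q R r) {a : Module.End F V} (ha : a ∈ Alg R) : ∃ b ∈ Alg R, Adj Q a b := by
  induction ha using Algebra.adjoin_induction with
  | mem s hs =>
    obtain ⟨x, hx, rfl⟩ := hs
    exact ⟨_, Algebra.subset_adjoin ⟨_, h.inv x hx, rfl⟩, Adj.of_isom (h.isom x hx)⟩
  | algebraMap t => exact ⟨_, algebraMap_mem _ _, Adj.algebraMap t⟩
  | add s t _ _ hs ht =>
    obtain ⟨b, hb, h1⟩ := hs
    obtain ⟨c, hc, h2⟩ := ht
    exact ⟨_, add_mem hb hc, h1.add h2⟩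
  | mul s t _ _ hs ht =>
    obtain ⟨b, hb, h1⟩ := hs
    obtain ⟨c, hc, h2⟩ := ht
    exact ⟨_, mul_mem hc hb, h1.mul h2⟩

/-- the adjoint in `F[R]` -/
noncomputable def CG.star (h : CG Q R r) (a : ↥(Alg R)) : ↥(Alg R) :=
  ⟨Classical.choose (h.exists_adj a.2), (Classical.choose_spec (h.exists_adj a.2)).1⟩

theorem CG.star_adj (h : CG Q R r) (a : ↥(Alg R)) : Adj Q (a : Module.End F V) (h.star a : Module.End F V) :=
  (Classical.choose_spec (h.exists_adj a.2)).2

theorem CG.star_eq (h : CG Q R r) {a b : ↥(Alg R)} (hab : Adj Q (a : Module.End F V) (b : Module.End F V)) :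
    h.star a = b := Subtype.ext (Adj.unique h.nondeg (h.star_adj a) hab)

/-- The adjoint as a homomorphism of algebras. -/
noncomputable def CG.tau (h : CG Q R r) : ↥(Alg R) →ₐ[F] ↥(Alg R) where
  toFun := h.star
  map_one' := h.star_eq Adj.one
  map_mul' a b := h.star_eq (by
    have h1 := (h.star_adj a).mul (h.star_adj b)
    have h2 : (h.star b : Module.End F V) * (h.star a : Module.End F V) =
      (h.star a : Module.End F V) * (h.star b : Module.End F V) := alg_comm h.comm (h.star b).2 (h.star a).2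
    rw [h2] at h1
    exact h1)
  map_zero' := h.star_eq Adj.zero
  map_add' a b := h.star_eq ((h.star_adj a).add (h.star_adj b))
  commutes' c := h.star_eq (Adj.algebraMap c)

theorem CG.tau_adj (h : CG Q R r) (a : ↥(Alg R)) : Adj Q (a : Module.End F V) (h.tau a : Module.End F V) :=
  h.star_adj a

theorem CG.tau_eq (h : CG Q R r) {a b : ↥(Alg R)} (hab : Adj Q (a : Module.End F V) (b : Module.End F V)) :
    h.tau a = b := h.star_eq hab

theorem isMulCommutative_alg (h : CG Q R r) : IsMulCommutative ↥(Alg R) :=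
  ⟨⟨fun a b => Subtype.ext (alg_comm h.comm a.2 b.2)⟩⟩

theorem pow_coe (x : V ≃ₗ[F] V) (k : ℕ) :
    ((x : V →ₗ[F] V) : Module.End F V) ^ k = (((x ^ k : V ≃ₗ[F] V)) : V →ₗ[F] V) := by
  induction k with
  | zero => rfl
  | succ k ih =>
    rw [pow_succ, pow_succ, ih]
    rfl

/-- the data of `Alg.lean` -/
theorem CG.data [Finite F] (h : CG Q R r) :
    haveI := isMulCommutative_alg h
    haveI := Fintype.ofFinite F
    AlgData (F := F) (A := ↥(Alg R)) h.tau
      (((↑) : ↥(Alg R) → Module.End F V) ⁻¹' {a | ∃ x ∈ R, a = (x : V →ₗ[F] V)}) r := by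
  haveI := isMulCommutative_alg h
  haveI := Fintype.ofFinite F
  refine ⟨Algebra.adjoin_adjoin_coe_preimage, fun x => h.tau_eq (h.tau_adj x).symm, ?_, ?_, ?_, h.prime, h.odd,
    h.char, ?_⟩
  · rintro s ⟨x, hx, hs⟩
    apply Subtype.ext
    rw [SubmonoidClass.coe_pow, hs, pow_coe, h.pow x hx]
    rfl
  · rintro s ⟨x, hx, hs⟩
    have h1 : h.tau s = ⟨((x⁻¹ : V ≃ₗ[F] V) : V →ₗ[F] V), Algebra.subset_adjoin ⟨_, h.inv x hx, rfl⟩⟩ := by
      apply h.tau_eq
      rw [hs]
      exact Adj.of_isom (h.isom x hx)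
    rw [h1]
    apply Subtype.ext
    ext v
    change x⁻¹ ((s : Module.End F V) v) = v
    rw [hs]
    exact x.symm_apply_apply v
  · obtain ⟨x, hx, hx1⟩ := h.ne
    refine ⟨⟨(x : V →ₗ[F] V), Algebra.subset_adjoin ⟨_, hx, rfl⟩⟩, ⟨x, hx, rfl⟩, fun h0 => hx1 ?_⟩
    ext v
    exact LinearMap.congr_fun (congrArg Subtype.val h0) v
  · intro e he hte
    have h1 : (e : Module.End F V) ∈ Idm Q R := by
      refine ⟨e.2, congrArg Subtype.val he, ?_⟩
      have h2 := h.tau_adj e
      rw [hte] at h2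
      exact h2
    rcases h.idem _ h1 with h3 | h3
    · exact Or.inl (Subtype.ext h3)
    · exact Or.inr (Subtype.ext h3)

section fin

variable [Finite F] [FiniteDimensional F V]

theorem finite_lin : Finite (V ≃ₗ[F] V) := by
  have : Finite V := Module.finite_of_finite F
  exact Finite.of_injective (fun f : V ≃ₗ[F] V => (f : V → V)) fun _ _ h => DFunLike.coe_injective h

/-- nonidentity elements of `R` have no fixed vectors -/
theorem CG.fix (h : CG Q R r) {x : V ≃ₗ[F] V} (hx : x ∈ R) (hx1 : x ≠ 1) {v : V} (hv : x v = v) : v = 0 := by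
  classical
  have := finite_lin (F := F) (V := V)
  have : Fact r.Prime := ⟨h.prime⟩
  have hord : orderOf x = r := orderOf_eq_prime (h.pow x hx) hx1
  have := Fintype.ofFinite (Subgroup.zpowers x)
  have hcard : (Fintype.card (Subgroup.zpowers x) : F) ≠ 0 := by
    rw [← Nat.card_eq_fintype_card, Nat.card_zpowers, hord]
    exact h.char
  have hO : ∀ y ∈ Subgroup.zpowers x, y ∈ O Q := by
    intro y hy
    exact (Subgroup.zpowers_le.2 (h.isom x hx)) hy
  have hpow : ∀ k : ℕ, ((x ^ k : V ≃ₗ[F] V) : V →ₗ[F] V) ∈ Alg R := by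
    intro k
    rw [← pow_coe]
    have h4 : (x : V →ₗ[F] V) ∈ Alg R := Algebra.subset_adjoin ⟨x, hx, rfl⟩
    exact pow_mem h4 k
  have hav : av (Subgroup.zpowers x) ∈ Idm Q R := by
    refine ⟨?_, av_mul_av hcard, av_SA hO⟩
    refine Subalgebra.smul_mem _ (sum_mem fun y _ => ?_) _
    obtain ⟨k', hk'⟩ : ∃ k' : ℕ, x ^ k' = (y : V ≃ₗ[F] V) := by
      have h3 : (y : V ≃ₗ[F] V) ∈ Submonoid.powers x := (mem_powers_iff_mem_zpowers).2 y.2
      exact h3
    rw [← hk']
    exact hpow k'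
  rcases h.idem _ hav with h0 | h0
  · have h3 : ∀ y ∈ Subgroup.zpowers x, y v = v := by
      intro y hy
      have h4 : Subgroup.zpowers x ≤ MulAction.stabilizer (V ≃ₗ[F] V) v := Subgroup.zpowers_le.2 hv
      exact h4 hy
    have h4 : av (Subgroup.zpowers x) v = v := by
      rw [av, LinearMap.smul_apply, LinearMap.sum_apply]
      have h5 : ∀ y : Subgroup.zpowers x, ((y : V ≃ₗ[F] V) : V →ₗ[F] V) v = v := fun y => h3 y y.2
      rw [Finset.sum_congr rfl fun y _ => h5 y, Finset.sum_const, Finset.card_univ, ← Nat.cast_smul_eq_nsmul F,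
        smul_smul, inv_mul_cancel₀ hcard, one_smul]
    rw [h0] at h4
    exact h4.symm
  · exfalso
    apply hx1
    have h3 := mul_av (Subgroup.mem_zpowers x)
    rw [h0, mul_one] at h3
    ext v
    exact LinearMap.congr_fun h3 v

theorem CG.additive_zero (h : CG Q R r) {D : V → F} (hadd : ∀ u v, D (u + v) = D u + D v)
    (hD : ∀ x ∈ R, ∀ v, D (x v) = D v) (v : V) : D v = 0 := by
  obtain ⟨x, hx, hx1⟩ := h.ne
  let L : V →ₗ[F] V := (x : V →ₗ[F] V) - LinearMap.id
  have hinj : Function.Injective L := by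
    rw [← LinearMap.ker_eq_bot, LinearMap.ker_eq_bot']
    intro v hv
    exact h.fix hx hx1 (sub_eq_zero.1 hv)
  obtain ⟨w, rfl⟩ := (LinearMap.injective_iff_surjective.1 hinj) v
  have h1 : D (L w) + D w = D w := by
    rw [← hadd, ← hD x hx w]
    congr 1
    change (x w - w) + w = x w
    abel
  linear_combination h1

theorem CG.not_four (h : CG Q R r) (hn : Module.finrank F V % 4 = 2) :
    ¬ 4 ∣ orderOf ((Nat.card F : ℕ) : ZMod r) := by
  have := finite_lin (F := F) (V := V)
  have hV : Finite V := Module.finite_of_finite F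
  have : Fact r.Prime := ⟨h.prime⟩
  obtain ⟨x, hx, hx1⟩ := h.ne
  have hord : orderOf x = r := orderOf_eq_prime (h.pow x hx) hx1
  have hp : IsPGroup r (Subgroup.zpowers x) := IsPGroup.of_card (n := 1) (by rw [Nat.card_zpowers, hord, pow_one])
  have h1 := hp.card_modEq_card_fixedPoints V
  have h2 : MulAction.fixedPoints (Subgroup.zpowers x) V = {0} := by
    ext v
    rw [Set.mem_singleton_iff]
    constructor
    · intro hv
      exact h.fix hx hx1 (hv ⟨x, Subgroup.mem_zpowers x⟩)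
    · rintro rfl y
      exact map_zero (y : V ≃ₗ[F] V)
  rw [h2, Module.natCard_eq_pow_finrank (K := F)] at h1
  have h3 : Nat.card ({0} : Set V) = 1 := Nat.card_unique
  rw [h3] at h1
  have h4 : ((Nat.card F : ℕ) : ZMod r) ^ Module.finrank F V = 1 := by
    have := (ZMod.natCast_eq_natCast_iff _ _ _).2 h1
    push_cast at this
    exact this
  intro h5
  have h6 := h5.trans (orderOf_dvd_of_pow_eq_one h4)
  omega

/-- **The quadratic étale algebra in `F[R]`.** -/
theorem CG.exists_Th (h : CG Q R r) (hV : Nontrivial V) (hn : Module.finrank F V % 4 = 2) :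
    ∃ (θ : Module.End F V) (n : F), θ ∈ Alg R ∧ Th Q θ n ∧ ∀ a ∈ Alg R, a ^ (Nat.card F ^ 2) = a ↔
      ∃ c d : F, a = algebraMap F (Module.End F V) c + algebraMap F (Module.End F V) d * θ := by
  have := isMulCommutative_alg h
  have := Fintype.ofFinite F
  have hVf : Finite V := Module.finite_of_finite F
  have : Finite (Module.End F V) :=
    Finite.of_injective (fun f : Module.End F V => (f : V → V)) fun _ _ h => DFunLike.coe_injective h
  have : Nontrivial ↥(Alg R) := by
    refine ⟨⟨0, 1, fun h0 => ?_⟩⟩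
    obtain ⟨v, hv⟩ := exists_ne (0 : V)
    exact hv (LinearMap.congr_fun (congrArg Subtype.val h0) v).symm
  have hd := h.data
  have h4 := h.not_four hn
  rw [Nat.card_eq_fintype_card] at h4
  obtain ⟨θ, n, e1, e2, e3, e4⟩ := hd.exists_theta h4
  have hθ : ∀ v, (θ : Module.End F V) ((θ : Module.End F V) v) = (θ : Module.End F V) v - n • v := by
    intro v
    exact LinearMap.congr_fun (congrArg Subtype.val e2) v
  have hadj : ∀ u v, polar Q ((θ : Module.End F V) u) v = polar Q u (v - (θ : Module.End F V) v) := by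
    intro u v
    have h5 := h.tau_adj θ u v
    rw [e1] at h5
    exact h5
  have hcx : ∀ x ∈ R, ∀ v, (θ : Module.End F V) (x v) = x ((θ : Module.End F V) v) := by
    intro x hx v
    have h5 : (x : V →ₗ[F] V) ∈ Alg R := Algebra.subset_adjoin ⟨x, hx, rfl⟩
    exact LinearMap.congr_fun (alg_comm h.comm θ.2 h5) v
  refine ⟨θ, n, θ.2, ⟨hadj, hθ, e3, ?_, ?_⟩, ?_⟩
  · intro v
    have h5 := h.additive_zero (D := fun v => Q ((θ : Module.End F V) v) - n * Q v) ?_ ?_ v
    · exact sub_eq_zero.1 h5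
    · intro u v
      have h6 : polar Q ((θ : Module.End F V) u) ((θ : Module.End F V) v) = n * polar Q u v := by
        rw [hadj, hθ, sub_sub_cancel, polar_smul_right, smul_eq_mul]
      rw [map_add, Q_add, Q_add, h6]
      ring
    · intro x hx v
      rw [hcx x hx, h.isom x hx, h.isom x hx]
  · intro v
    have h5 := h.additive_zero (D := fun v => polar Q v ((θ : Module.End F V) v) - Q v) ?_ ?_ v
    · exact sub_eq_zero.1 h5
    · intro u v
      have h6 : polar Q v ((θ : Module.End F V) u) = polar Q u v - polar Q u ((θ : Module.End F V) v) := by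
        rw [polar_comm, hadj, polar_sub_right]
      rw [map_add, Q_add, polar_add_left, polar_add_right, polar_add_right, h6]
      ring
    · intro x hx v
      rw [hcx x hx, polar_map (h.isom x hx), h.isom x hx]
  · intro a ha
    rw [Nat.card_eq_fintype_card]
    have h5 := e4 ⟨a, ha⟩
    constructor
    · intro h6
      obtain ⟨c, d, h7⟩ := h5.1 (Subtype.ext h6)
      exact ⟨c, d, congrArg Subtype.val h7⟩
    · rintro ⟨c, d, h7⟩
      exact congrArg Subtype.val (h5.2 ⟨c, d, Subtype.ext h7⟩)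

end fin

theorem cj_pow {M : V ≃+ V} {σ : F ≃+* F} {c : F} (hM : IsSemi Q M σ c) (a : Module.End F V) (k : ℕ) :
    cj hM a ^ k = cj hM (a ^ k) := by
  induction k with
  | zero =>
    ext v
    obtain ⟨w, rfl⟩ := M.surjective v
    rw [cj_apply]
    rfl
  | succ k ih =>
    rw [pow_succ, ih, pow_succ]
    ext v
    obtain ⟨w, rfl⟩ := M.surjective v
    rw [Module.End.mul_apply, cj_apply, cj_apply, cj_apply, Module.End.mul_apply]

/-- **One coarse block, dimension `2 mod 4`.** -/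
theorem one [Finite F] (hG : Good Q) {A : Subgroup (P Q)} {Γ : Subgroup (MulAut (P Q))} (h : IF A Γ)
    (hodd : Odd (Nat.card A)) {r : ℕ} {R : Subgroup (P Q)} (hr : r.Prime) (hr2 : r ≠ 2) (hR : R ≠ ⊥)
    (hpow : ∀ x ∈ R, x ^ r = 1) (hcomm : ∀ x ∈ R, ∀ y ∈ R, x * y = y * x) (hinv : ∀ σ ∈ Γ, ∀ x ∈ R, σ x ∈ R)
    (hΓ : Semi Q Γ) (hrF : (r : F) ≠ 0) (hid : ∀ e ∈ Idm Q (hatSet R r), e = 0 ∨ e = 1)
    (hn : Module.finrank F V % 4 = 2) (h10 : 10 ≤ Module.finrank F V) : False := by
  have : FiniteDimensional F V := Module.finite_of_finrank_pos (by omega)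
  have hV : Nontrivial V := Module.nontrivial_of_finrank_pos (R := F) (by omega)
  have hro : Odd r := hr.odd_of_ne_two hr2
  have hC : CG Q (hatSet R r) r :=
    ⟨fun x hx => hat_O hx, fun x hx => hat_inv hx, fun x hx y hy => hat_comm hG hro hcomm hx hy, fun x hx => hat_pow hx,
      exists_hat_ne hG hro hpow hR, hr, hr2, hrF, hG.nondeg, hid⟩
  obtain ⟨θ, n, hθA, hTh, hS⟩ := hC.exists_Th hV hn
  have hx : ∃ x ∈ E Q, (∀ v, x (x v) = v) ∧ (¬ ∃ c : F, ∀ v, x v = c • v) ∧ ∀ v, x (θ v) = θ (x v) := by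
    by_cases h2 : (2 : F) = 0
    · exact hTh.exists_inv_two hG h2
    · exact hTh.exists_inv_odd hG h10 h2
  obtain ⟨x, hxE, hx2, hx1, hxθ⟩ := hx
  let S : Set (Module.End F V) := {a | a ∈ Alg (hatSet R r) ∧ a ^ (Nat.card F ^ 2) = a}
  have hθS : θ ∈ S := ⟨hθA, (hS θ hθA).2 ⟨0, 1, by rw [map_zero, map_one, zero_add, one_mul]⟩⟩
  refine kill_of_set (R := R) (r := r) hG h hodd hΓ hinv S ?_ hxE ⟨1, fun v => by rw [hx2, one_smul]⟩ hx1 ?_ ?_
  · intro M σ c hM hMR a ha
    refine ⟨cj hM a, ⟨cj_mem hM hMR ha.1, ?_⟩, cj_apply hM a⟩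
    rw [cj_pow, ha.2]
  · intro a ha
    refine ⟨a, ha, fun v => ?_⟩
    obtain ⟨c, d, rfl⟩ := (hS a ha.1).1 ha.2
    rw [LinearMap.add_apply, LinearMap.add_apply, Module.End.mul_apply, Module.End.mul_apply,
      Module.algebraMap_end_apply, Module.algebraMap_end_apply, Module.algebraMap_end_apply,
      Module.algebraMap_end_apply, map_add, map_smul, map_smul, hxθ]
  · by_contra hcon
    push Not at hcon
    refine hTh.not_normal hG fun g hg => ?_
    obtain ⟨b, hb, hbg⟩ := hcon g hg θ hθS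
    obtain ⟨c, d, rfl⟩ := (hS b hb.1).1 hb.2
    refine ⟨c, d, fun v => ?_⟩
    rw [← hbg]
    rfl

end Cfsg.Agent.H429.IFO
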